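import Cfsg.Agent.S0206
import Cfsg.Agent.SmallSimple.PSLTwoPart
import Cfsg.Agent.S0812
import Cfsg.Agent.ClassicalGeometry.PSLTorus
import Cfsg.Agent.TwoFusion.SLTwoFacts
import Cfsg.Agent.Prune
set_option linter.all false
open scoped Cfsg.Agent.FastGrp

/-!
# The Sylow 2-subgroups of `PSL(2, q)`, `16 ∣ q² - 1`, are dihedral of order at least 8 (helper798)
-/

set_option autoImplicit false

namespace Cfsg.Agent.H798

/-- A subgroup of order the full power of `p` is isomorphic to every Sylow `p`-subgroup. -/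
theorem sylow_equiv_of_card {G : Type*} [Group G] [Finite G] {p : ℕ} [Fact p.Prime] (S : Sylow p G) {H : Subgroup G}
    {k : ℕ} (hH : Nat.card H = p ^ k) (hk : ¬ p ^ (k + 1) ∣ Nat.card G) : Nonempty ((S : Subgroup G) ≃* H) := by
  have h1 : IsPGroup p H := IsPGroup.of_card hH
  obtain ⟨P, hP⟩ := h1.exists_le_sylow
  have hPH : (P : Subgroup G) = H := by
    symm
    apply Subgroup.eq_of_le_of_card_ge hP
    obtain ⟨j, hj⟩ := IsPGroup.iff_card.1 P.isPGroup'
    rw [hj, hH]
    apply Nat.pow_le_pow_right (Nat.Prime.pos Fact.out)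
    by_contra hlt
    push Not at hlt
    apply hk
    calc p ^ (k + 1) ∣ p ^ j := pow_dvd_pow p hlt
      _ = Nat.card (P : Subgroup G) := hj.symm
      _ ∣ Nat.card G := Subgroup.card_subgroup_dvd_card _
  rw [← hPH]
  exact ⟨Sylow.equiv S P⟩

/-- The Sylow 2-subgroups are dihedral if some subgroup of odd index is dihedral. -/
theorem sylow_dihedral {G : Type*} [Group G] [Finite G] (S : Sylow 2 G) (H : Subgroup G) {k m : ℕ} (hk : 1 ≤ k)
    (hm : Odd m) (e : H ≃* DihedralGroup (2 ^ k * m)) (hi : Odd H.index) :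
    Nonempty ((S : Subgroup G) ≃* DihedralGroup (2 ^ k)) := by
  have hm0 : m ≠ 0 := by rintro rfl; simp at hm
  have hNe : NeZero (2 ^ k * m) := ⟨by positivity⟩
  set x : H := e.symm (DihedralGroup.sr 0) with hx
  set y : H := e.symm (DihedralGroup.sr (m : ZMod (2 ^ k * m))) with hy
  have hxy : orderOf (x * y) = 2 ^ k := by
    rw [hx, hy, ← map_mul, MulEquiv.orderOf_eq, DihedralGroup.sr_mul_sr, sub_zero, DihedralGroup.orderOf_r,
      ZMod.val_natCast]
    have h1 : Nat.gcd (2 ^ k * m) (m % (2 ^ k * m)) = m := by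
      rw [Nat.gcd_comm, ← Nat.gcd_rec, Nat.gcd_comm, Nat.gcd_comm, Nat.gcd_eq_right (Dvd.intro_left _ rfl)]
    rw [h1, Nat.mul_div_cancel _ (Nat.pos_of_ne_zero hm0)]
  have hx2 : orderOf (x : G) = 2 := by
    rw [Subgroup.orderOf_coe, hx, MulEquiv.orderOf_eq, DihedralGroup.orderOf_sr]
  have hy2 : orderOf (y : G) = 2 := by
    rw [Subgroup.orderOf_coe, hy, MulEquiv.orderOf_eq, DihedralGroup.orderOf_sr]
  have hne : (x : G) ≠ y := by
    intro h
    have h1 : x = y := Subtype.ext h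
    have h2 : x * y = 1 := by
      rw [← h1]
      apply Subtype.ext
      have := pow_orderOf_eq_one (x : G)
      rw [hx2, pow_two] at this
      exact this
    rw [h2, orderOf_one] at hxy
    have : 2 ^ 1 ≤ 2 ^ k := Nat.pow_le_pow_right (by norm_num) hk
    omega
  obtain ⟨f⟩ := Cfsg.Agent.S0206.result (x : G) (y : G) hx2 hy2 hne
  have hxy' : orderOf ((x : G) * (y : G)) = 2 ^ k := by
    rw [← Subgroup.coe_mul, Subgroup.orderOf_coe, hxy]
  rw [hxy'] at f
  have hc : Nat.card (Subgroup.closure ({(x : G), (y : G)} : Set G)) = 2 ^ (k + 1) := by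
    rw [Nat.card_congr f.toEquiv, DihedralGroup.nat_card, pow_succ']
  obtain ⟨g⟩ := sylow_equiv_of_card S hc (by
    rw [← H.index_mul_card, Nat.card_congr e.toEquiv, DihedralGroup.nat_card]
    intro hd
    have h1 : H.index * (2 * (2 ^ k * m)) = 2 ^ (k + 1) * (H.index * m) := by ring
    rw [h1, pow_succ 2 (k + 1)] at hd
    have h2 : 2 ∣ H.index * m := Nat.dvd_of_mul_dvd_mul_left (by positivity) hd
    have h3 : Odd (H.index * m) := hi.mul hm
    rw [Nat.odd_iff] at h3
    omega)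
  exact ⟨g.trans f⟩

theorem sylow_dihedral' {G : Type*} [Group G] [Finite G] (S : Sylow 2 G) (H : Subgroup G) {N : ℕ} (hN : 4 ∣ N)
    (hN0 : N ≠ 0) (e : H ≃* DihedralGroup N) (hi : Odd H.index) :
    ∃ k : ℕ, 2 ≤ k ∧ Nonempty ((S : Subgroup G) ≃* DihedralGroup (2 ^ k)) := by
  have h1 : N = 2 ^ N.factorization 2 * (N / 2 ^ N.factorization 2) := (Nat.ordProj_mul_ordCompl_eq_self N 2).symm
  have h2 : 2 ≤ N.factorization 2 := by
    rw [← Nat.Prime.pow_dvd_iff_le_factorization Nat.prime_two hN0]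
    exact hN
  have h3 : Odd (N / 2 ^ N.factorization 2) := by
    have := Nat.not_dvd_ordCompl Nat.prime_two hN0
    rw [Nat.odd_iff]
    omega
  rw [h1] at e
  exact ⟨_, h2, sylow_dihedral S H (by omega) h3 e hi⟩

/-- **The Sylow 2-subgroups of `PSL(2, q)`, `16 ∣ q² - 1`.** -/
theorem psl_two_dihedral {F : Type*} [Field F] [Fintype F] (hodd : Fintype.card F % 2 = 1)
    (h16 : 16 ∣ Fintype.card F ^ 2 - 1) (S : Sylow 2 (Matrix.ProjectiveSpecialLinearGroup (Fin 2) F)) :
    ∃ k : ℕ, 2 ≤ k ∧ Nonempty ((S : Subgroup (Matrix.ProjectiveSpecialLinearGroup (Fin 2) F)) ≃*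
      DihedralGroup (2 ^ k)) := by
  classical
  have hfin : Finite (Matrix.ProjectiveSpecialLinearGroup (Fin 2) F) := inferInstanceAs (Finite (_ ⧸ _))
  obtain ⟨q, hq⟩ : ∃ q, q = Fintype.card F := ⟨_, rfl⟩
  have hq1 : 1 < q := hq ▸ Fintype.one_lt_card
  rw [← hq] at hodd h16
  have hgcd : Nat.gcd 2 (q - 1) = 2 := Nat.gcd_eq_left (by omega)
  have hcard := Cfsg.Agent.SmallSimple.PSLTwoPart.card_psl_two_odd (F := F) (by
    rw [← hq, Nat.odd_iff]; exact hodd)
  rw [← hq] at hcard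
  obtain ⟨m, hm⟩ : ∃ m, q = 2 * m + 1 := ⟨q / 2, by omega⟩
  have hm2 : q ^ 2 - 1 = 4 * (m * (m + 1)) := by
    rw [hm, Nat.sub_eq_iff_eq_add (by nlinarith)]
    ring
  have h4 : 4 ∣ m * (m + 1) := by
    rw [hm2] at h16
    exact Nat.dvd_of_mul_dvd_mul_left (by norm_num : 0 < 4) (by simpa using h16)
  rw [hm2] at hcard
  rcases Nat.even_or_odd m with hev | hod
  · -- `q ≡ 1 mod 8`
    have h4m : 4 ∣ m := by
      refine Nat.Coprime.dvd_of_dvd_mul_right ?_ h4
      obtain ⟨j, hj⟩ := hev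
      have : Nat.Coprime 2 (m + 1) := by
        rw [Nat.coprime_two_left, Nat.odd_iff]
        omega
      exact Nat.Coprime.pow_left 2 this
    obtain ⟨e⟩ := Cfsg.Agent.S0812.nonempty_mulEquiv_pmono (F := F) hq.symm
    have hN : (q - 1) / Nat.gcd 2 (q - 1) = m := by
      rw [hgcd]; omega
    rw [hN] at e
    refine sylow_dihedral' S _ h4m (by omega) e ?_
    have hc := (Cfsg.Agent.S0812.pmono F).card_mul_index
    rw [Nat.card_congr e.toEquiv, DihedralGroup.nat_card] at hc
    rw [← hc] at hcard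
    have hc3 : (4 * m) * (Cfsg.Agent.S0812.pmono F).index = (4 * m) * (q * (m + 1)) := by
      calc (4 * m) * (Cfsg.Agent.S0812.pmono F).index = 2 * (2 * m * (Cfsg.Agent.S0812.pmono F).index) := by ring
        _ = q * (4 * (m * (m + 1))) := hcard
        _ = _ := by ring
    have hc2 : (Cfsg.Agent.S0812.pmono F).index = q * (m + 1) :=
      Nat.eq_of_mul_eq_mul_left (by omega) hc3
    rw [hc2]
    refine Odd.mul ?_ ?_
    · rw [Nat.odd_iff]; exact hodd
    · exact hev.add_one
  · -- `q ≡ 7 mod 8`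
    have h4m : 4 ∣ m + 1 := by
      refine Nat.Coprime.dvd_of_dvd_mul_left ?_ h4
      have : Nat.Coprime 2 m := Nat.coprime_two_left.2 hod
      exact Nat.Coprime.pow_left 2 this
    obtain ⟨-, H, -, -, -, -, ⟨e⟩, -⟩ := Cfsg.Agent.ClassicalGeometry.PSLTorus.exists_psl_torus F
    rw [← hq] at e
    have hN : (q + 1) / Nat.gcd 2 (q - 1) = m + 1 := by
      rw [hgcd]; omega
    rw [hN] at e
    refine sylow_dihedral' S H h4m (by omega) e ?_
    have hc := H.card_mul_index
    rw [Nat.card_congr e.toEquiv, DihedralGroup.nat_card] at hc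
    rw [← hc] at hcard
    have hc3 : (4 * (m + 1)) * H.index = (4 * (m + 1)) * (q * m) := by
      calc (4 * (m + 1)) * H.index = 2 * (2 * (m + 1) * H.index) := by ring
        _ = q * (4 * (m * (m + 1))) := hcard
        _ = _ := by ring
    have hc2 : H.index = q * m :=
      Nat.eq_of_mul_eq_mul_left (by omega) hc3
    rw [hc2]
    refine Odd.mul ?_ hod
    rw [Nat.odd_iff]; exact hodd

end Cfsg.Agent.H798

private theorem dce_d4d29eb4cf24 : _root_.True := by
  try have : _root_.True := by simp only [_root_.Matrix.ProjectiveSpecialLinearGroup.congr_simp]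
  exact _root_.True.intro
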