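import Cfsg.Agent.H568.RowTools_m3
import Cfsg.Agent.H568.LinP
import Cfsg.Agent.H568.FieldFix
import Cfsg.Agent.H967.CopMat
import Cfsg.Agent.Lib.Zsigmondy
import Cfsg.Prelude.Def_KGroupFacts
import Cfsg.Agent.H60.TRowTwF4
import Cfsg.Agent.OddRank.SzTits
import Cfsg.Agent.S1163
import Cfsg.Agent.S1069
import Cfsg.Agent.S1156
import Cfsg.Agent.S1159
import Cfsg.Agent.H798.RowTwC
import Cfsg.Agent.H977.TwF4Two
import Cfsg.Agent.S1068
import Cfsg.Agent.FastGrp
import Cfsg.Agent.Prune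
set_option linter.all false
prune_inst 0x7f00000000000000000000000000000000000000000000000000000000000000000000000000000000000000000000000000000000000000000000000000000000000000000000000000000000000000003fffffffffffffffffffffffffffbeffbdffffffff
open scoped Cfsg.Agent.FastGrp

-- part: H798/RowTwA
section
/-!
# Generic part of the rows `Sz`, `Ree`, `²F₄` of S4329 (helper798)
-/

set_option autoImplicit false

namespace Cfsg.Agent.H798.RowTw

open Subgroup Cfsg.Agent.H568 Cfsg.Agent.H967.CopMat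

/-- The generic row: `x` has prime order `l` and is fixed by no outer automorphism. -/
theorem row_generic {S : Type*} [Group S] [Finite S] [IsSimpleGroup S] (hna : ¬ IsMulCommutative S) {p : ℕ}
    [hp : Fact p.Prime] {x : S} {l : ℕ} (hl : l.Prime) (hx : orderOf x = l)
    (hout : ∀ a : MulAut S, a x = x → ∃ s : S, a = MulAut.conj s)
    (hlp : ∀ a : MulAut S, orderOf a = p → (¬ ∃ s : S, a = MulAut.conj s) → l ≠ p)
    (hpc : l ≠ p → PCent p x)
    (hin : (∃ P : Sylow p S, IsCyclic ↥(P : Subgroup S)) ∨ ∃ y : S, NoNorm p y) : Row p S := by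
  refine row_of hna fun a ha => ?_
  by_cases hi : ∃ s : S, a = MulAut.conj s
  · rcases hin with h | h
    · exact Or.inl ⟨hi, h⟩
    · exact Or.inr (Or.inl ⟨hi, h⟩)
  · have h1 := hlp a ha hi
    refine Or.inr (Or.inr ⟨x, ?_, hpc h1, fun g hg => hi ?_⟩)
    · rw [hx]
      intro h
      exact h1 ((Nat.prime_dvd_prime_iff_eq hp.1 hl).1 h).symm
    · obtain ⟨s, hs⟩ := hout _ hg
      refine ⟨g⁻¹ s, ?_⟩
      have h2 : a = g⁻¹ * MulAut.conj s * g := by rw [← hs]; group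
      rw [h2]
      ext y
      simp only [MulAut.mul_apply, MulAut.conj_apply, _root_.MulAut.inv_apply, _root_.map_mul, _root_.MulEquiv.symm_apply_apply, _root_.map_inv]

/-- An outer automorphism of order `p`: `p` divides the order of `Out`. -/
theorem dvd_out {S : Type*} [Group S] [Finite S] {p : ℕ} [hp : Fact p.Prime] {a : MulAut S} (ha : orderOf a = p)
    (hi : ¬ ∃ s : S, a = MulAut.conj s) : p ∣ Nat.card (Cfsg.Out S) := by
  have h1 : (QuotientGroup.mk' (Cfsg.Inn S) a) ^ p = 1 := by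
    rw [← map_pow, ← ha, pow_orderOf_eq_one, map_one]
  have h2 : QuotientGroup.mk' (Cfsg.Inn S) a ≠ 1 := by
    intro h
    apply hi
    have h3 : a ∈ Cfsg.Inn S := (QuotientGroup.eq_one_iff a).1 h
    obtain ⟨s, hs⟩ := h3
    exact ⟨s, hs.symm⟩
  have h3 : orderOf (QuotientGroup.mk' (Cfsg.Inn S) a) = p := orderOf_eq_prime h1 h2
  rw [← h3]
  exact _root_.orderOf_dvd_natCard _

/-- A field automorphism of a field of order `r ^ f`, `f` odd, is trivial if a matrix `X` of order `l` with `ord_l(r) = N f`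
is conjugate to its image and the degree is less than `3 N`. -/
theorem sigma_one {F : Type*} [Field F] [Finite F] {ι : Type*} [Fintype ι] [DecidableEq ι] {σ : F ≃+* F}
    {l r f N : ℕ} (hr : r.Prime) (hF : Nat.card F = r ^ f) (hf : Odd f) (hl : l.Prime) (hlr : l ≠ r)
    (hE : ∀ m, l ∣ r ^ m - 1 ↔ N * f ∣ m) (hn : Fintype.card ι < 3 * N) {A : GL ι F} {X : Matrix ι ι F}
    (hAX : (A : Matrix ι ι F) * X.map σ = X * A) (hX : X ^ l = 1) (hX1 : X ≠ 1) : σ = 1 := by
  have h1 := Module.natCard_eq_pow_finrank (K := ↥(FieldFix.fx σ)) (V := F)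
  rw [hF] at h1
  have hk0 : Module.finrank ↥(FieldFix.fx σ) F ≠ 0 := Module.finrank_pos.ne'
  generalize hk : Module.finrank ↥(FieldFix.fx σ) F = k at h1 hk0
  have h2 : Nat.card ↥(FieldFix.fx σ) ∣ r ^ f := by
    rw [h1]
    exact dvd_pow_self _ hk0
  obtain ⟨f0, -, h3⟩ := (Nat.dvd_prime_pow hr).1 h2
  rw [h3, ← pow_mul] at h1
  have h4 : f = f0 * k := Nat.pow_right_injective hr.two_le h1
  have hlF : ¬ l ∣ Nat.card F := by
    rw [hF]
    intro h
    exact hlr ((Nat.prime_dvd_prime_iff_eq hl hr).1 (hl.dvd_of_dvd_pow h))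
  have h5 := FieldFix.le_of_semi (E := N * f) hl hlF h3 (fun m hm h => Nat.le_of_dvd (Nat.pos_of_ne_zero hm) ((hE m).1 h))
    hAX hX hX1
  have hf0 : 0 < f0 := by
    rcases Nat.eq_zero_or_pos f0 with h | h
    · subst h
      rw [zero_mul] at h4
      subst h4
      exact absurd hf (by decide)
    · exact h
  have hk1 : k = 1 := by
    by_contra hk1
    have hk3 : 3 ≤ k := by
      rcases Nat.lt_or_ge k 3 with h | h
      · have h6 : k = 2 := by omega
        subst h6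
        exact absurd hf (Nat.not_odd_iff_even.2 (by rw [h4]; exact even_two.mul_left _))
      · exact h
    have h6 : N * f0 * 3 ≤ N * f := by
      rw [h4, mul_assoc]
      exact Nat.mul_le_mul_left _ (Nat.mul_le_mul_left _ hk3)
    have h7 : N * f0 * 3 ≤ f0 * Fintype.card ι := h6.trans h5
    have h8 : f0 * Fintype.card ι < f0 * (3 * N) := Nat.mul_lt_mul_of_pos_left hn hf0
    have h9 : f0 * (3 * N) = N * f0 * 3 := by ring
    omega
  rw [hk1] at hk
  have htop : (⊤ : Submodule ↥(FieldFix.fx σ) F) = Submodule.span ↥(FieldFix.fx σ) {1} := by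
    symm
    apply Submodule.eq_top_of_finrank_eq
    rw [hk, finrank_span_singleton one_ne_zero]
  ext y
  have hy : y ∈ Submodule.span ↥(FieldFix.fx σ) ({1} : Set F) := htop ▸ Submodule.mem_top
  obtain ⟨c, hc⟩ := Submodule.mem_span_singleton.1 hy
  have hc' : y = (c : F) := by
    rw [← hc, Subfield.smul_def, smul_eq_mul, mul_one]
  rw [hc']
  exact c.2

/-- The main lemma on outer automorphisms. -/
theorem inner_of_fixes {F : Type*} [Field F] [Finite F] {κ : Type*} [Fintype κ] [DecidableEq κ]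
    {G : Subgroup (GL κ F)} (hG : Stab G)
    (hA : ∀ ψ : MulAut ↥G, ∃ (g : ↥G) (σ : F ≃+* F), ψ = MulAut.conj g * fieldAut hG σ)
    {ι : Type*} [Fintype ι] [DecidableEq ι] (ρ : ↥G →* Matrix ι ι F)
    (hρ : ∀ (σ : F ≃+* F) (g : ↥G), ρ (fieldAut hG σ g) = (ρ g).map σ)
    {l r f N : ℕ} (hr : r.Prime) (hF : Nat.card F = r ^ f) (hf : Odd f) (hl : l.Prime) (hlr : l ≠ r)
    (hE : ∀ m, l ∣ r ^ m - 1 ↔ N * f ∣ m) (hn : Fintype.card ι < 3 * N) {x : ↥G} (hx : orderOf x = l) (hx1 : ρ x ≠ 1)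
    (a : MulAut ↥G) (ha : a x = x) : ∃ s : ↥G, a = MulAut.conj s := by
  obtain ⟨g, σ, rfl⟩ := hA a
  have h1 : g * fieldAut hG σ x = x * g := by
    have h2 : g * fieldAut hG σ x * g⁻¹ = x := ha
    calc g * fieldAut hG σ x = g * fieldAut hG σ x * g⁻¹ * g := by group
      _ = x * g := by rw [h2]
  have h2 : ρ g * (ρ x).map σ = ρ x * ρ g := by
    rw [← hρ, ← map_mul, h1, map_mul]
  let A : GL ι F := ⟨ρ g, ρ g⁻¹, by rw [← map_mul, mul_inv_cancel, map_one], by rw [← map_mul, inv_mul_cancel, map_one]⟩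
  have h3 : σ = 1 := sigma_one (A := A) hr hF hf hl hlr hE hn h2
    (by rw [← map_pow, ← hx, pow_orderOf_eq_one, map_one]) hx1
  refine ⟨g, ?_⟩
  rw [h3, map_one, mul_one]

/-- `PCent` in small dimension. -/
theorem pcent_of {F : Type*} [Field F] [Finite F] {S : Type*} [Group S] [Finite S]
    {ι : Type*} [Fintype ι] [DecidableEq ι] (ρ : S →* Matrix ι ι F) (hρ : Function.Injective ρ)
    {l p : ℕ} (hp : p.Prime) (hp2 : p ≠ 2) (hpF : (p : F) ≠ 0) (hl : l.Prime) (hn : Fintype.card ι < l)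
    {x : S} (hx : orderOf x = l) (hlp : l ≠ p) : PCent p x := by
  intro Q hQ hxn
  let ρ' : S →* GL ι F := ρ.toHomUnits
  have h1 : ∀ y : S, ρ' y = 1 → y = 1 := by
    intro y hy
    apply hρ
    rw [map_one]
    exact congrArg Units.val hy
  exact linP ρ' hp hp2 hl hlp hpF Q hQ (fun y _ hy => h1 y hy) x hxn
    (fun y _ => by rw [← hx, pow_orderOf_eq_one, one_mul, mul_one]) hn

end Cfsg.Agent.H798.RowTw
end

-- part: H798/RowTwB
section
/-!
# The rows `Sz` and `Ree` of S4329 (helper798)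
-/

set_option autoImplicit false

namespace Cfsg.Agent.H798.RowTw

open Subgroup Cfsg Cfsg.Lie Cfsg.Agent.H568 Cfsg.Agent.H967.CopMat Cfsg.Agent.H967.CopSz

universe u

/-- A matrix group with a small faithful representation. -/
theorem row_mat {F : Type*} [Field F] [Finite F] {κ : Type*} [Fintype κ] [DecidableEq κ]
    {G : Subgroup (GL κ F)} [IsSimpleGroup ↥G] (hna : ¬ IsMulCommutative ↥G) (hG : Stab G)
    (hA : ∀ ψ : MulAut ↥G, ∃ (g : ↥G) (σ : F ≃+* F), ψ = MulAut.conj g * fieldAut hG σ)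
    {ι : Type*} [Fintype ι] [DecidableEq ι] (ρ : ↥G →* Matrix ι ι F) (hρi : Function.Injective ρ)
    (hρ : ∀ (σ : F ≃+* F) (g : ↥G), ρ (fieldAut hG σ g) = (ρ g).map σ)
    {l r f N : ℕ} (hr : r.Prime) (hF : Nat.card F = r ^ f) (hf : Odd f) (hl : l.Prime) (hlr : l ≠ r)
    (hE : ∀ m, l ∣ r ^ m - 1 ↔ N * f ∣ m) (hn : Fintype.card ι < 3 * N) (hnl : Fintype.card ι < l) (hfl : f < l)
    (hOut : Nat.card (Cfsg.Out ↥G) = f) {x : ↥G} (hx : orderOf x = l)
    {p : ℕ} [hp : Fact p.Prime] (hp2 : p ≠ 2) (hpr : p = r → NoNorm p x)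
    (hin : (∃ P : Sylow p ↥G, (IsCyclic ↥(P : Subgroup ↥G) :)) ∨ ∃ y : ↥G, NoNorm p y) : Row p ↥G := by
  have hx1 : ρ x ≠ 1 := by
    intro h
    have h1 : x = 1 := hρi (by rw [h, map_one])
    rw [h1, orderOf_one] at hx
    exact hl.one_lt.ne hx
  refine row_generic hna hl hx (inner_of_fixes hG hA ρ hρ hr hF hf hl hlr hE hn hx hx1) ?_ ?_ hin
  · intro a ha hi h
    have h1 := dvd_out ha hi
    rw [hOut] at h1
    have h2 : 0 < f := hf.pos
    have h3 := Nat.le_of_dvd h2 h1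
    omega
  · intro hlp
    by_cases hpr' : p = r
    · exact (hpr hpr').pcent
    · refine pcent_of ρ hρi hp.1 hp2 ?_ hl hnl hx hlp
      intro h0
      have h1 : p ∣ Nat.card F := by
        have : Fintype F := Fintype.ofFinite F
        obtain ⟨c, hc⟩ := CharP.exists F
        have h2 := (CharP.cast_eq_zero_iff F c p).1 h0
        have hcp : c.Prime := (CharP.char_is_prime F c)
        have h3 := (Nat.prime_dvd_prime_iff_eq hcp hp.1).1 h2
        subst h3
        obtain ⟨n, -, h4⟩ := FiniteField.card F c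
        rw [Nat.card_eq_fintype_card, h4]
        exact dvd_pow_self _ n.pos.ne'
      rw [hF] at h1
      exact hpr' ((Nat.prime_dvd_prime_iff_eq hp.1 hr).1 (hp.1.dvd_of_dvd_pow h1))

theorem coe_rho_injective {F : Type*} [Field F] {κ : Type*} [Fintype κ] [DecidableEq κ] (G : Subgroup (GL κ F)) :
    Function.Injective ((Units.coeHom (Matrix κ κ F)).comp G.subtype) := by
  intro a b h
  exact Subtype.ext (Units.ext h)

theorem fac (Q : ℕ) : Q ^ 2 - 1 = (Q - 1) * (Q + 1) := by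
  have h := Nat.sq_sub_sq Q 1
  rw [one_pow] at h
  rw [h, mul_comm]

/-- **The row of the Suzuki groups.** -/
theorem row_sz (K : Type u) [Group K] [Finite K] [IsSimpleGroup K] (h : Cfsg.Lie.IsoSuzuki K) (p : ℕ)
    [hp : Fact p.Prime] (hp2 : p ≠ 2) : Cfsg.Agent.H568.Row p K := by
  have hcyc : ∃ P : Sylow p K, IsCyclic ↥(P : Subgroup K) :=
    ⟨default, OddRank.SzTits.isCyclic_of_isPGroup h hp2 _ (default : Sylow p K).isPGroup'⟩
  obtain ⟨F, iF, iF', m, hm, hF, ⟨e⟩⟩ := h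
  have hs : IsSimpleGroup ↥(Cfsg.Lie.Sz F (2 ^ (m + 1))) := e.symm.isSimpleGroup
  have hcard := (Cfsg.Agent.S1163.result hm hF).1
  have hF' : Nat.card F = 2 ^ (2 * m + 1) := by rw [Nat.card_eq_fintype_card, hF]
  obtain ⟨l, hl, hE, hdv, hl2⟩ := Cfsg.Agent.Lib.Zsigmondy.exists_primitive (a := 2) (n := 4 * (2 * m + 1)) le_rfl
    (by omega) (by omega) (by omega)
  have hlle : 4 * (2 * m + 1) ≤ l - 1 := Nat.le_of_dvd (by have := hl.two_le; omega) hdv
  have hldvd : l ∣ (2 ^ (2 * m + 1)) ^ 2 + 1 := by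
    have h1 : l ∣ 2 ^ (4 * (2 * m + 1)) - 1 := (hE _).2 dvd_rfl
    have h2 : 2 ^ (4 * (2 * m + 1)) - 1 = (2 ^ (2 * (2 * m + 1)) - 1) * ((2 ^ (2 * m + 1)) ^ 2 + 1) := by
      have h3 : 2 ^ (4 * (2 * m + 1)) = ((2 ^ (2 * m + 1)) ^ 2) ^ 2 := by rw [← pow_mul, ← pow_mul]; ring_nf
      have h4 : 2 ^ (2 * (2 * m + 1)) = (2 ^ (2 * m + 1)) ^ 2 := by rw [← pow_mul]; ring_nf
      rw [h3, h4]
      exact fac _
    rw [h2] at h1
    rcases hl.dvd_mul.1 h1 with h3 | h3
    · have h4 := (hE _).1 h3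
      have := Nat.le_of_dvd (by omega) h4
      omega
    · exact h3
  have hdc : l ∣ Nat.card ↥(Cfsg.Lie.Sz F (2 ^ (m + 1))) := by
    rw [hcard]
    exact hldvd.mul_left _
  have : Fact l.Prime := ⟨hl⟩
  obtain ⟨x, hx⟩ := exists_prime_orderOf_dvd_card' l hdc
  have hna : ¬ IsMulCommutative ↥(Cfsg.Lie.Sz F (2 ^ (m + 1))) := by
    intro hc
    have h1 : (Nat.card ↥(Cfsg.Lie.Sz F (2 ^ (m + 1)))).Prime := by
      have := hc
      let _ : CommGroup ↥(Cfsg.Lie.Sz F (2 ^ (m + 1))) := { mul_comm := fun a b => hc.is_comm.comm a b }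
      exact IsSimpleGroup.prime_card
    have h2 : 2 ∣ Nat.card ↥(Cfsg.Lie.Sz F (2 ^ (m + 1))) := by
      rw [hcard, mul_assoc]
      exact ((dvd_pow_self 2 (by omega)).trans (dvd_pow_self _ two_ne_zero)).mul_right _
    have h3 := (Nat.prime_dvd_prime_iff_eq Nat.prime_two h1).1 h2
    have h4 := (Nat.prime_dvd_prime_iff_eq hl h1).1 hdc
    omega
  have hE' : ∀ k, l ∣ 2 ^ k - 1 ↔ 4 * (2 * m + 1) ∣ k := hE
  refine (row_mat (G := Cfsg.Lie.Sz F (2 ^ (m + 1))) hna (stab_sz hF) ?_ ((Units.coeHom _).comp (Subgroup.subtype _))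
    (coe_rho_injective _) (fun σ g => rfl) Nat.prime_two hF' ⟨m, rfl⟩ hl (by omega) hE' (by rw [Fintype.card_fin]; norm_num)
    (by rw [Fintype.card_fin]; omega) (by omega) (S2126.result hm hF) hx hp2 (fun h => absurd h hp2) (Or.inl ?_)).congr e.symm
  · intro ψ
    obtain ⟨g, σ, h⟩ := Cfsg.Agent.H70.SzAutThm.exists_conj_field hm hF ψ
    exact ⟨g, σ, h⟩
  · obtain ⟨P, hP⟩ := hcyc
    refine ⟨default, ?_⟩
    have h1 : ∀ Q : Subgroup K, IsPGroup p Q → IsCyclic Q := by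
      intro Q hQ
      exact OddRank.SzTits.isCyclic_of_isPGroup ⟨F, iF, iF', m, hm, hF, ⟨e⟩⟩ hp2 Q hQ
    let D : Sylow p ↥(Cfsg.Lie.Sz F (2 ^ (m + 1))) := default
    have h2 := h1 ((D : Subgroup _).map e.symm.toMonoidHom) ((by exact D.isPGroup'.map _))
    exact ((D : Subgroup _).equivMapOfInjective (by exact e.symm.toMonoidHom) e.symm.injective).isCyclic.2 (by exact h2)

/-- **The row of the small Ree groups.** -/
theorem row_ree (K : Type u) [Group K] [Finite K] [IsSimpleGroup K] (h : Cfsg.Lie.IsoRee K) (p : ℕ)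
    [hp : Fact p.Prime] (hp2 : p ≠ 2) : Cfsg.Agent.H568.Row p K := by
  obtain ⟨F, iF, iF', m, hm, hF, ⟨e⟩⟩ := h
  have hs : IsSimpleGroup ↥(twistedG2 F (3 ^ m)) := e.symm.isSimpleGroup
  have hcard := Cfsg.Agent.S1069.result hF
  have hF' : Nat.card F = 3 ^ (2 * m + 1) := by rw [Nat.card_eq_fintype_card, hF]
  obtain ⟨l, hl, hE, hdv, hl3⟩ := Cfsg.Agent.Lib.Zsigmondy.exists_primitive (a := 3) (n := 6 * (2 * m + 1)) (by norm_num)
    (by omega) (by omega) (by omega)
  have hlle : 6 * (2 * m + 1) ≤ l - 1 := Nat.le_of_dvd (by have := hl.two_le; omega) hdv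
  have hldvd : l ∣ (3 ^ (2 * m + 1)) ^ 3 + 1 := by
    have h1 : l ∣ 3 ^ (6 * (2 * m + 1)) - 1 := (hE _).2 dvd_rfl
    have h2 : 3 ^ (6 * (2 * m + 1)) - 1 = (3 ^ (3 * (2 * m + 1)) - 1) * ((3 ^ (2 * m + 1)) ^ 3 + 1) := by
      have h3 : 3 ^ (6 * (2 * m + 1)) = ((3 ^ (2 * m + 1)) ^ 3) ^ 2 := by rw [← pow_mul, ← pow_mul]; ring_nf
      have h4 : 3 ^ (3 * (2 * m + 1)) = (3 ^ (2 * m + 1)) ^ 3 := by rw [← pow_mul]; ring_nf
      rw [h3, h4]
      exact fac _
    rw [h2] at h1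
    rcases hl.dvd_mul.1 h1 with h3 | h3
    · have h4 := (hE _).1 h3
      have := Nat.le_of_dvd (by omega) h4
      omega
    · exact h3
  have hdc : l ∣ Nat.card ↥(twistedG2 F (3 ^ m)) := by
    rw [hcard]
    exact hldvd.mul_left _
  have : Fact l.Prime := ⟨hl⟩
  obtain ⟨x, hx⟩ := exists_prime_orderOf_dvd_card' l hdc
  have hna : ¬ IsMulCommutative ↥(twistedG2 F (3 ^ m)) := by
    intro hc
    have h1 : (Nat.card ↥(twistedG2 F (3 ^ m))).Prime := by
      let _ : CommGroup ↥(twistedG2 F (3 ^ m)) := { mul_comm := fun a b => hc.is_comm.comm a b }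
      exact IsSimpleGroup.prime_card
    have h2 : 3 ∣ Nat.card ↥(twistedG2 F (3 ^ m)) := by
      rw [hcard, mul_assoc]
      exact ((dvd_pow_self 3 (by omega)).trans (dvd_pow_self _ (by norm_num))).mul_right _
    have h3 := (Nat.prime_dvd_prime_iff_eq Nat.prime_three h1).1 h2
    have h4 := (Nat.prime_dvd_prime_iff_eq hl h1).1 hdc
    omega
  have hN3 : p = 3 → NoNorm p x := by
    rintro rfl
    have hno : ∀ z : ↥(twistedG2 F (3 ^ m)), orderOf z ≠ 3 * l := by
      intro z hz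
      have h1 := (Cfsg.Agent.S1159.result hm hF (3 * l)).1 ⟨z, hz⟩
      have h3 : ∀ a : ℕ, ¬ 3 ∣ a → ¬ 3 * l ∣ a := fun a ha h => ha ((Dvd.intro _ rfl).trans h)
      have hq : 3 ∣ 3 ^ (2 * m + 1) := dvd_pow_self 3 (by omega)
      have hq1 : 1 ≤ 3 ^ (2 * m + 1) := Nat.one_le_pow _ _ (by norm_num)
      have hq2 : 3 ∣ 3 ^ (m + 1) := dvd_pow_self 3 (by omega)
      have hqq : 3 ^ (m + 1) ≤ 3 ^ (2 * m + 1) := Nat.pow_le_pow_right (by norm_num) (by omega)
      rcases h1 with h | h | h | h | h | h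
      · have := Nat.le_of_dvd (by norm_num) h
        omega
      · have := Nat.le_of_dvd (by norm_num) h
        omega
      · exact h3 _ (by omega) h
      · refine h3 _ ?_ h
        intro h4
        have h5 : Odd (3 ^ (2 * m + 1)) := Odd.pow (by decide)
        obtain ⟨c, hc⟩ := h5
        omega
      · exact h3 _ (by (clear * -; omega)) h
      · exact h3 _ (by (clear * -; omega)) h
    have hl3' : l ≠ 3 := by omega
    refine noNorm_of_order hl hx ?_ ?_
    · intro y hy hc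
      apply hno (x * y)
      rw [(show Commute x y from hc).orderOf_mul_eq_mul_orderOf_of_coprime (by
        rw [hx, hy]; exact (Nat.coprime_primes hl Nat.prime_three).2 hl3'), hx, hy, mul_comm]
    · intro k hk hdk hlk
      rw [hcard, mul_assoc] at hdk
      have h1 : Nat.Coprime (3 ^ k) ((3 ^ (2 * m + 1) - 1) * ((3 ^ (2 * m + 1)) ^ 3 + 1)) := by
        apply Nat.Coprime.pow_left
        rw [Nat.Prime.coprime_iff_not_dvd Nat.prime_three, Nat.Prime.dvd_mul Nat.prime_three]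
        have hq : 3 ∣ 3 ^ (2 * m + 1) := dvd_pow_self 3 (by omega)
        have hq1 : 1 ≤ 3 ^ (2 * m + 1) := Nat.one_le_pow _ _ (by norm_num)
        have hq3 : 3 ∣ (3 ^ (2 * m + 1)) ^ 3 := hq.trans (dvd_pow_self _ (by norm_num))
        (clear * - hq1 hq3; omega)
      have h2 := h1.dvd_of_dvd_mul_right hdk
      rw [← pow_mul] at h2
      have h3 := (Nat.pow_dvd_pow_iff_le_right (by norm_num : 1 < 3)).1 h2
      have h4 := Nat.le_of_dvd (Nat.pos_of_ne_zero hk) ((hE k).1 hlk)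
      omega
  refine (row_mat (G := twistedG2 F (3 ^ m)) hna (stab_g2 _) ?_ ((Units.coeHom _).comp (Subgroup.subtype _))
    (coe_rho_injective _) (fun σ g => rfl) Nat.prime_three hF' ⟨m, rfl⟩ hl (by omega) hE ?_
    ?_ (by (clear * - hlle; omega)) (S2127.result hm hF) hx hp2 hN3 ?_).congr e.symm
  · intro ψ
    obtain ⟨g, σ, h⟩ := Cfsg.Agent.H71.FldAut.ree_aut hm hF ψ
    exact ⟨g, σ, h⟩
  · have : Fintype.card chevG2.Idx = 14 := rfl
    omega
  · have : Fintype.card chevG2.Idx = 14 := rfl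
    omega
  · rcases Nat.lt_or_ge 3 p with h3 | h3
    · exact Or.inl ⟨default, Cfsg.Agent.S1156.result hm hF h3 default⟩
    · have := hp.1.two_le
      exact Or.inr ⟨x, hN3 (by omega)⟩

end Cfsg.Agent.H798.RowTw
end

-- part: H798/RowTwD
section
/-!
# The row `²F₄` of S4329 (helper798)
-/

set_option autoImplicit false

namespace Cfsg.Agent.H798.RowTw

open Subgroup Cfsg Cfsg.Lie Cfsg.Agent.H568 Cfsg.Agent.H967.CopMat Cfsg.Agent.H967.CopSz
  Cfsg.Agent.ChevalleyStructure.Elts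

universe u

theorem twF4_le_group {K : Type*} [Field K] (e : ℕ) : twistedF4 K e ≤ chevF4.group K := by
  have hD : InList chevF4 := by simp [InList]
  unfold twistedF4 ChevalleyDatum.genSubgroup
  rw [Subgroup.closure_le]
  rintro g ⟨w, -, hg⟩
  rw [← eq_wordG_iff hD] at hg
  rw [SetLike.mem_coe, hg]
  clear hg
  induction w with
  | nil => exact one_mem _
  | cons p w ih => rw [wordG_cons]; exact mul_mem (xG_mem_group hD _ _) ih

/-- an element centralising all `p`-subgroups which it normalises, and commuting with no element of order `p` -/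
theorem noNorm_of_pcent {S : Type*} [Group S] {p : ℕ} [hp : Fact p.Prime] {x : S} (h : PCent p x)
    (hc : ∀ y : S, orderOf y = p → x * y ≠ y * x) : NoNorm p x := by
  intro Q hQ hn
  by_contra hb
  obtain ⟨y, hy1'⟩ := Subgroup.ne_bot_iff_exists_ne_one.1 hb
  have hy1 : (y : S) ≠ 1 := fun h => hy1' (Subtype.ext h)
  obtain ⟨j, hj⟩ := hQ y
  have hj' : (y : S) ^ p ^ j = 1 := by simpa only [_root_.SubmonoidClass.coe_pow, _root_.OneMemClass.coe_one] using congrArg Subtype.val hj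
  obtain ⟨i, -, hi⟩ := (Nat.dvd_prime_pow hp.1).1 (orderOf_dvd_of_pow_eq_one hj')
  have hi0 : i ≠ 0 := by
    rintro rfl
    rw [pow_zero, orderOf_eq_one_iff] at hi
    exact hy1 hi
  obtain ⟨i', rfl⟩ := Nat.exists_eq_succ_of_ne_zero hi0
  have h6 : orderOf ((y : S) ^ p ^ i') = p := by
    rw [orderOf_pow_of_dvd (pow_ne_zero _ hp.1.ne_zero) (by rw [hi]; exact pow_dvd_pow _ (Nat.le_succ _)), hi,
      Nat.pow_div (Nat.le_succ _) hp.1.pos]
    simp
  exact hc _ h6 ((show Commute x (y : S) from h Q hQ hn y y.2).pow_right _).eq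

open Cfsg.Agent.H977.TwF4Two in
/-- the faithful representation of degree 26 -/
theorem exists_rep {F : Type*} [Field F] [Finite F] [CharP F 2] (e : ℕ) [IsSimpleGroup ↥(twistedF4 F e)]
    (hna : ¬ IsMulCommutative ↥(twistedF4 F e)) :
    ∃ ρ : ↥(twistedF4 F e) →* Matrix (Fin 26) (Fin 26) F, Function.Injective ρ ∧
      ∀ (σ : F ≃+* F) (g : ↥(twistedF4 F e)), ρ (fieldAut (stab_f4 e) σ g) = (ρ g).map σ := by
  have h1 := ker_bot (twistedF4 F e) (twistedF4_le e) hna
  rcases (inferInstance : (homA (twistedF4 F e) (twistedF4_le e)).ker.Normal).eq_bot_or_eq_top with h | h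
  · refine ⟨homA (twistedF4 F e) (twistedF4_le e), (MonoidHom.ker_eq_bot_iff _).1 h, fun σ g => ?_⟩
    ext i j
    rfl
  · rw [h, top_inf_eq] at h1
    refine ⟨homC (twistedF4 F e) (twistedF4_le e), (MonoidHom.ker_eq_bot_iff _).1 h1, fun σ g => ?_⟩
    ext i j
    rfl

/-- **The row of the large Ree groups.** -/
theorem row_2f4 (K : Type u) [Group K] [Finite K] [IsSimpleGroup K] (h : Cfsg.Lie.Iso2F4 K) (p : ℕ)
    [hp : Fact p.Prime] (hp2 : p ≠ 2) : Cfsg.Agent.H568.Row p K := by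
  obtain ⟨F, iF, iF', m, hm, hF, ⟨e⟩⟩ := h
  have hs : IsSimpleGroup ↥(twistedF4 F (2 ^ m)) := e.symm.isSimpleGroup
  have hcard := Cfsg.Agent.S1068.result hF
  have hF' : Nat.card F = 2 ^ (2 * m + 1) := by rw [Nat.card_eq_fintype_card, hF]
  have h2f : Fact (Nat.Prime 2) := ⟨Nat.prime_two⟩
  have hc2 : CharP F 2 := charP_of_card Nat.prime_two hF
  obtain ⟨l, hl, hE, hdv, hl2⟩ := Cfsg.Agent.Lib.Zsigmondy.exists_primitive (a := 2) (n := 12 * (2 * m + 1)) le_rfl
    (by omega) (by omega) (by omega)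
  have hlle : 12 * (2 * m + 1) ≤ l - 1 := Nat.le_of_dvd (by have := hl.two_le; omega) hdv
  have hq1 : 1 ≤ 2 ^ (2 * m + 1) := Nat.one_le_pow _ _ (by norm_num)
  have hldvd : l ∣ (2 ^ (2 * m + 1)) ^ 6 + 1 := by
    have h1 : l ∣ 2 ^ (12 * (2 * m + 1)) - 1 := (hE _).2 dvd_rfl
    have h2 : 2 ^ (12 * (2 * m + 1)) - 1 = (2 ^ (6 * (2 * m + 1)) - 1) * ((2 ^ (2 * m + 1)) ^ 6 + 1) := by
      have h3 : 2 ^ (12 * (2 * m + 1)) = ((2 ^ (2 * m + 1)) ^ 6) ^ 2 := by rw [← pow_mul, ← pow_mul]; ring_nf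
      have h4 : 2 ^ (6 * (2 * m + 1)) = (2 ^ (2 * m + 1)) ^ 6 := by rw [← pow_mul]; ring_nf
      rw [h3, h4]
      exact fac _
    rw [h2] at h1
    rcases hl.dvd_mul.1 h1 with h3 | h3
    · have h4 := (hE _).1 h3
      have := Nat.le_of_dvd (by omega) h4
      omega
    · exact h3
  have hdc : l ∣ Nat.card ↥(twistedF4 F (2 ^ m)) := by
    rw [hcard]
    exact hldvd.mul_left _
  have : Fact l.Prime := ⟨hl⟩
  obtain ⟨x, hx⟩ := exists_prime_orderOf_dvd_card' l hdc
  have hna : ¬ IsMulCommutative ↥(twistedF4 F (2 ^ m)) := by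
    intro hc
    have h1 : (Nat.card ↥(twistedF4 F (2 ^ m))).Prime := by
      let _ : CommGroup ↥(twistedF4 F (2 ^ m)) := { mul_comm := fun a b => hc.is_comm.comm a b }
      exact IsSimpleGroup.prime_card
    have h2 : 2 ∣ Nat.card ↥(twistedF4 F (2 ^ m)) := by
      rw [hcard, mul_assoc, mul_assoc, mul_assoc]
      exact ((dvd_pow_self 2 (by omega)).trans (dvd_pow_self _ (by norm_num))).mul_right _
    have h3 := (Nat.prime_dvd_prime_iff_eq Nat.prime_two h1).1 h2
    have h4 := (Nat.prime_dvd_prime_iff_eq hl h1).1 hdc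
    omega
  obtain ⟨ρ, hρi, hρ⟩ := exists_rep (F := F) (2 ^ m) hna
  -- the torus of `F₄(q)`
  obtain ⟨T, hT, hTc, hTi⟩ := f4_torus (F := F) _ hF
  have hlT : l ∣ Nat.card ↥T := by
    set q := 2 ^ (2 * m + 1) with hq
    have h1 : (q ^ 2 + 1) * (Nat.card ↥T) = q ^ 6 + 1 := by
      have h2 : (q ^ 2 + 1) * (Nat.card ↥T + q ^ 2) = (q ^ 2 + 1) * (q ^ 4 + 1) := by rw [hTc]
      rw [mul_add] at h2
      have h3 : (q ^ 2 + 1) * (q ^ 4 + 1) = (q ^ 6 + 1) + (q ^ 2 + 1) * q ^ 2 := by ring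
      rw [h3] at h2
      exact Nat.add_right_cancel h2
    rw [← h1] at hldvd
    rcases hl.dvd_mul.1 hldvd with h2 | h2
    · exfalso
      have h3 : l ∣ 2 ^ (4 * (2 * m + 1)) - 1 := by
        have h4 : 2 ^ (4 * (2 * m + 1)) - 1 = (q ^ 2 - 1) * (q ^ 2 + 1) := by
          have h5 : 2 ^ (4 * (2 * m + 1)) = (q ^ 2) ^ 2 := by rw [hq, ← pow_mul, ← pow_mul]; ring_nf
          rw [h5]
          exact fac _
        rw [h4]
        exact h2.mul_left _
      have h4 := Nat.le_of_dvd (by omega) ((hE _).1 h3)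
      omega
    · exact h2
  have hle := twF4_le_group (K := F) (2 ^ m)
  let inc := Subgroup.inclusion hle
  have hinc : Function.Injective inc := Subgroup.inclusion_injective hle
  refine (row_mat (G := twistedF4 F (2 ^ m)) hna (stab_f4 _) ?_ ρ hρi hρ Nat.prime_two hF' ⟨m, rfl⟩ hl (by omega) hE
    (by rw [Fintype.card_fin]; norm_num) (by rw [Fintype.card_fin]; omega) (by omega) (S2128.result hm hF) hx hp2
    (fun h => absurd h hp2) ?_).congr e.symm
  · intro ψ
    obtain ⟨g, σ, h⟩ := Cfsg.Agent.H71.FldAut.twF4_aut hm hF ψ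
    exact ⟨g, σ, h⟩
  · by_cases hcom : ∃ y : ↥(twistedF4 F (2 ^ m)), orderOf y = p ∧ x * y = y * x
    · obtain ⟨y, hy, hxy⟩ := hcom
      have h1 := (isolated hT hTi hlT).2 (inc x) (inc y) (by rw [orderOf_injective inc hinc, hx])
        (by rw [← map_mul, ← map_mul, hxy])
      rw [orderOf_injective inc hinc, hy] at h1
      refine Or.inl ⟨default, ?_⟩
      have h2 := (isolated hT hTi h1).1 (((default : Sylow p ↥(twistedF4 F (2 ^ m))) : Subgroup _).map inc)
        ((by exact (default : Sylow p ↥(twistedF4 F (2 ^ m))).isPGroup'.map _))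
      exact (((default : Sylow p ↥(twistedF4 F (2 ^ m))) : Subgroup _).equivMapOfInjective inc hinc).isCyclic.2 (by exact h2)
    · push Not at hcom
      refine Or.inr ⟨x, noNorm_of_pcent ?_ hcom⟩
      have hlp : l ≠ p := by
        rintro rfl
        exact hcom x hx rfl
      refine pcent_of ρ hρi hp.1 hp2 ?_ hl (by rw [Fintype.card_fin]; omega) hx hlp
      intro h0
      have h2 := (CharP.cast_eq_zero_iff F 2 p).1 h0
      exact hp2 ((Nat.prime_dvd_prime_iff_eq Nat.prime_two hp.1).1 h2).symm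

end Cfsg.Agent.H798.RowTw
end

private theorem dce_c1a65a7659a2 : _root_.True := by
  try have : _root_.True := by simp only [_root_.Cfsg.Agent.H967.CopMat.fieldAut.congr_simp]
  exact _root_.True.intro
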